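import Cfsg.Agent.Lib.Coprime.Action

/-!
# Groups whose non-central `p`-elements have solvable centralizers: reductions
-/

set_option autoImplicit false

namespace Cfsg.Lib.AltC
open Subgroup
open scoped commutatorElement

universe u

/-- Non-central `p`-elements have solvable centralizers. -/
def SC (p : ℕ) (H : Type*) [Group H] : Prop :=
  ∀ x : H, x ∉ center H → (∃ k : ℕ, orderOf x = p ^ k) → Group.IsSolvable (centralizer ({x} : Set H))

theorem solv_of_le {Q : Type*} [Group Q] {A B : Subgroup Q} (h : A ≤ B) (hB : Group.IsSolvable B) :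
    Group.IsSolvable A :=
  Group.isSolvable_of_isSolvable_injective (inclusion_injective h)

theorem solv_map {Q Q' : Type*} [Group Q] [Group Q'] (f : Q →* Q') {A : Subgroup Q} (hA : Group.IsSolvable A) :
    Group.IsSolvable (A.map f) :=
  Group.isSolvable_of_surjective (f.subgroupMap_surjective A)

theorem mem_comm_of_rel {Q : Type*} [Group Q] {a b : Q} (ha : a ^ 2 = 1) (hb : b ^ 3 = 1) (hab : (a * b) ^ 35 = 1) :
    a ∈ commutator Q ∧ b ∈ commutator Q := by
  have h1 : (Abelianization.of a) ^ 2 = 1 := by rw [← map_pow, ha, map_one]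
  have h2 : (Abelianization.of b) ^ 3 = 1 := by rw [← map_pow, hb, map_one]
  have h3 : (Abelianization.of a * Abelianization.of b) ^ 35 = 1 := by rw [← map_mul, ← map_pow, hab, map_one]
  rw [← Abelianization.ker_of, MonoidHom.mem_ker, MonoidHom.mem_ker]
  generalize Abelianization.of a = x at *
  generalize Abelianization.of b = y at *
  have h4 : x * y ^ 2 = 1 := by
    rw [← h3, mul_pow, show 35 = 2 * 17 + 1 by rfl, pow_succ x, pow_mul, h1, one_pow, one_mul,
      show 2 * 17 + 1 = 3 * 11 + 2 by rfl, pow_add, pow_mul, h2, one_pow, one_mul]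
  have h5 : x = 1 := by
    have : (x * y ^ 2) ^ 3 = 1 := by rw [h4, one_pow]
    rwa [mul_pow, ← pow_mul, mul_comm 2 3, pow_mul, h2, one_pow, mul_one, pow_succ, h1, one_mul] at this
  refine ⟨h5, ?_⟩
  rw [h5, one_mul] at h4
  rwa [pow_succ, h4, one_mul] at h2

theorem not_solv_of_rel {Q : Type*} [Group Q] {a b : Q} (h0 : a ≠ 1) (ha : a ^ 2 = 1) (hb : b ^ 3 = 1)
    (hab : (a * b) ^ 35 = 1) {T : Subgroup Q} (haT : a ∈ T) (hbT : b ∈ T) : ¬ Group.IsSolvable T := by
  rintro ⟨k, hk⟩
  have : ∀ m, (⟨a, haT⟩ : T) ∈ derivedSeries T m ∧ (⟨b, hbT⟩ : T) ∈ derivedSeries T m := by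
    intro m
    induction m with
    | zero => simp
    | succ m ih =>
      obtain ⟨h1, h2⟩ := mem_comm_of_rel (Q := derivedSeries T m) (a := ⟨_, ih.1⟩) (b := ⟨_, ih.2⟩)
        (Subtype.ext (Subtype.ext ha)) (Subtype.ext (Subtype.ext hb)) (Subtype.ext (Subtype.ext hab))
      rw [derivedSeries_succ, ← map_subtype_commutator]
      exact ⟨mem_map_of_mem _ h1, mem_map_of_mem _ h2⟩
  have h := (this k).1
  rw [hk, mem_bot] at h
  exact h0 (congrArg Subtype.val h)

theorem SC.sub {p : ℕ} {G : Type*} [Group G] (h : SC p G) (K : Subgroup G) : SC p K := by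
  intro x hx hk
  have h1 : (x : G) ∉ center G := fun hc => hx (by
    rw [mem_center_iff] at hc ⊢
    exact fun g => Subtype.ext (hc g))
  have h2 := h x h1 (by rwa [orderOf_coe])
  refine Group.isSolvable_of_isSolvable_injective (G' := centralizer ({(x : G)} : Set G))
    (f := ((K.subtype.comp (centralizer ({x} : Set K)).subtype).codRestrict _ fun g => ?_)) ?_
  · rw [mem_centralizer_singleton_iff]
    exact congrArg Subtype.val (mem_centralizer_singleton_iff.1 g.2)
  · intro g g' e
    exact Subtype.ext (Subtype.ext (by exact congrArg (fun t : centralizer ({(x : G)} : Set G) => (t : G)) e))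

/-- A `p`-element of a quotient lifts to a `p`-element. -/
theorem exists_lift {p : ℕ} (hp : p.Prime) {G G' : Type*} [Group G] [Finite G] [Group G'] (f : G →* G')
    (hf : Function.Surjective f) {y : G'} (hy : ∃ k : ℕ, orderOf y = p ^ k) :
    ∃ x, f x = y ∧ ∃ k : ℕ, orderOf x = p ^ k := by
  obtain ⟨k, hk⟩ := hy
  obtain ⟨x, rfl⟩ := hf y
  obtain ⟨j, m, hm, e⟩ := Nat.exists_eq_pow_mul_and_not_dvd (orderOf_pos x).ne' p hp.one_lt.ne'
  have hc : m.Coprime (p ^ k) := (Nat.Coprime.pow_left k ((Nat.Prime.coprime_iff_not_dvd hp).2 hm)).symm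
  obtain ⟨t, ht⟩ : ∃ t, m * t ≡ 1 [MOD p ^ k] := by
    obtain ⟨t, ht⟩ := Nat.exists_mul_mod_eq_of_coprime 1 hc (pow_pos hp.pos k).ne'
    exact ⟨t, ht.2⟩
  refine ⟨x ^ (m * t), ?_, ?_⟩
  · rw [map_pow]
    conv_rhs => rw [← pow_one (f x)]
    rw [pow_eq_pow_iff_modEq, hk]
    exact ht
  · have : orderOf (x ^ (m * t)) ∣ p ^ j := by
      rw [orderOf_dvd_iff_pow_eq_one, ← pow_mul, show m * t * p ^ j = (p ^ j * m) * t by ring, ← e, pow_mul,
        pow_orderOf_eq_one, one_pow]
    obtain ⟨i, -, hi⟩ := (Nat.dvd_prime_pow hp).1 this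
    exact ⟨i, hi⟩

theorem SC.of_surj {p : ℕ} (hp : p.Prime) {G G' : Type*} [Group G] [Finite G] [Group G'] (h : SC p G) (f : G →* G')
    (hf : Function.Surjective f) (hk : f.ker ≤ center G ∨ p.Coprime (Nat.card f.ker)) : SC p G' := by
  intro y hy hy'
  obtain ⟨x, rfl, hx⟩ := exists_lift hp f hf hy'
  have h1 : x ∉ center G := fun hc => hy (by
    rw [mem_center_iff] at hc ⊢
    intro g
    obtain ⟨g, rfl⟩ := hf g
    rw [← map_mul, ← map_mul, hc])
  have h2 := h x h1 hx
  rcases hk with hk | hk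
  · set C := (centralizer ({f x} : Set G')).comap f with hC
    have hle : ⁅C, C⁆ ≤ centralizer ({x} : Set G) := by
      have hz : ∀ g ∈ C, ∀ t, t * (g * x * g⁻¹ * x⁻¹) = (g * x * g⁻¹ * x⁻¹) * t := fun g hg =>
        mem_center_iff.1 (hk (by
          have := mem_centralizer_singleton_iff.1 (mem_comap.1 hg)
          rw [MonoidHom.mem_ker, map_mul, map_mul, map_mul, this]; simp))
      rw [commutator_le]
      intro g hg g' hg'
      have key : ∀ g ∈ C, ∀ g' ∈ C, g * g' * x * (g * g')⁻¹ = (g * x * g⁻¹ * x⁻¹) * (g' * x * g'⁻¹ * x⁻¹) * x := by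
        intro g hg g' hg'
        calc g * g' * x * (g * g')⁻¹ = (g * (g' * x * g'⁻¹ * x⁻¹)) * x * g⁻¹ := by group
          _ = (g' * x * g'⁻¹ * x⁻¹) * (g * x * g⁻¹ * x⁻¹) * x := by rw [hz g' hg' g]; group
          _ = _ := by rw [hz g hg]
      have e : g * g' * x * (g * g')⁻¹ = g' * g * x * (g' * g)⁻¹ := by
        rw [key g hg g' hg', key g' hg' g hg, hz g hg]
      have e2 : ∀ g ∈ C, ∀ g' ∈ C, g * g' * x * (g * g')⁻¹ = g' * g * x * (g' * g)⁻¹ := fun g hg g' hg' => by
        rw [key g hg g' hg', key g' hg' g hg, hz g hg]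
      rw [mem_centralizer_singleton_iff, commutatorElement_def]
      have e3 := e2 g⁻¹ (inv_mem hg) g'⁻¹ (inv_mem hg')
      calc g * g' * g⁻¹ * g'⁻¹ * x = g * g' * (g⁻¹ * g'⁻¹ * x * (g⁻¹ * g'⁻¹)⁻¹) * (g⁻¹ * g'⁻¹) := by group
        _ = _ := by rw [e3]; group
    have h3 : Group.IsSolvable (⁅C, C⁆ : Subgroup G) := solv_of_le hle h2
    have h4 : Group.IsSolvable C := by
      have : Group.IsSolvable (_root_.commutator C) := by
        rw [← map_subtype_commutator] at h3
        exact Group.isSolvable_of_isSolvable_injective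
          (f := (equivMapOfInjective _ _ C.subtype_injective).toMonoidHom) (MulEquiv.injective _)
      exact Group.isSolvable_of_ker_le_range (_root_.commutator C).subtype Abelianization.of
        (by rw [Abelianization.ker_of, range_subtype])
    rw [← map_comap_eq_self_of_surjective hf (centralizer ({f x} : Set G'))]
    exact solv_map f h4
  · refine solv_of_le (fun g hg => ?_) (solv_map f h2)
    obtain ⟨g, rfl⟩ := hf g
    obtain ⟨k, hk'⟩ := hx
    haveI : Group.IsSolvable (zpowers x) := Group.isSolvable_of_comm fun a b => mul_comm' a b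
    obtain ⟨z, hz, hz'⟩ := Coprime.exists_mul_mem_centralizer' (A := zpowers x) (N := f.ker) (k := g)
      (by rw [normalizer_eq_top]; exact le_top)
      (by rw [Nat.card_zpowers, hk']; exact hk.pow_left k) (Or.inl inferInstance) (by
        rintro a ⟨i, rfl⟩
        have : Commute (f x) (f g) := (mem_centralizer_singleton_iff.1 hg).symm
        rw [MonoidHom.mem_ker, map_mul, map_mul, map_mul, map_inv, map_inv, map_zpow, (this.zpow_left i).eq]
        simp)
    refine ⟨z * g, ?_, by rw [map_mul, MonoidHom.mem_ker.1 hz, one_mul]⟩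
    exact mem_centralizer_singleton_iff.2 (hz' x (mem_zpowers x)).symm

/-- Reduction to a `p`-group kernel without central elements. -/
theorem red {p : ℕ} (hp : p.Prime) {Q : Type*} [Group Q] (A : Subgroup Q)
    (hA : ∀ (H : Type u) [Group H] [Finite H], SC p H → ∀ π : H →* Q, π.range = A → IsPGroup p π.ker →
      (∀ z ∈ π.ker, z ∈ center H → z = 1) → False)
    (H : Type u) [Group H] [Finite H] (h : SC p H) (π : H →* Q) (hπ : π.range = A) : False := by
  induction hn : Nat.card H using Nat.strong_induction_on generalizing H with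
  | _ n ih =>
  have hq : ∀ N : Subgroup H, N.Normal → N ≤ π.ker → (N ≤ center H ∨ p.Coprime (Nat.card N)) → N = ⊥ := by
    intro N hN hle hc
    by_contra hne
    refine ih _ ?_ (H ⧸ N) (h.of_surj hp (QuotientGroup.mk' N) (QuotientGroup.mk'_surjective N)
      (by rwa [QuotientGroup.ker_mk'])) (QuotientGroup.lift N π hle) ?_ rfl
    · rw [← hn, card_eq_card_quotient_mul_card_subgroup N]
      exact lt_mul_of_one_lt_right Nat.card_pos ((one_lt_card_iff_ne_bot N).2 hne)
    · rw [← hπ]
      ext q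
      constructor
      · rintro ⟨g, rfl⟩
        obtain ⟨g, rfl⟩ := QuotientGroup.mk_surjective g
        exact ⟨g, rfl⟩
      · rintro ⟨g, rfl⟩
        exact ⟨g, rfl⟩
  have hfr : π.ker ≤ frattini H := by
    rw [frattini, Order.radical, le_iInf₂_iff]
    intro M hM
    by_contra hle
    have htop : M ⊔ π.ker = ⊤ := hM.2 _ (left_lt_sup.2 hle)
    refine ih _ ?_ M (h.sub M) (π.domRestrict M) ?_ rfl
    · rw [← hn, ← M.card_mul_index]
      exact lt_mul_of_one_lt_right Nat.card_pos (one_lt_index_of_ne_top hM.1)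
    · rw [MonoidHom.domRestrict_range, ← hπ, MonoidHom.range_eq_map, ← htop, Subgroup.map_sup,
        (Subgroup.map_eq_bot_iff _).2 le_rfl, sup_bot_eq]
  have hnil : Group.IsNilpotent π.ker := by
    haveI := frattini_nilpotent (G := H)
    exact Subgroup.isNilpotent_of_ker_le_center (inclusion hfr) (by
      rw [(MonoidHom.ker_eq_bot_iff _).2 (inclusion_injective hfr)]; exact bot_le)
  refine hA H h π hπ ?_ ?_
  · haveI := Fact.mk hp
    refine IsPGroup.of_card (n := (Nat.card π.ker).primeFactorsList.length)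
      (Nat.eq_prime_pow_of_unique_prime_dvd Nat.card_pos.ne' fun {r} hr hd => ?_)
    by_contra hne
    haveI := Fact.mk hr
    obtain ⟨S⟩ : Nonempty (Sylow r π.ker) := inferInstance
    have hS : (S : Subgroup π.ker).Normal := by
      have := (Group.isNilpotent_of_finite_tfae (G := π.ker)).out 0 3
      exact this.1 hnil r inferInstance S
    haveI := Sylow.characteristic_of_normal S hS
    have h1 := hq ((S : Subgroup π.ker).map π.ker.subtype) inferInstance (map_subtype_le _) (Or.inr (by
      obtain ⟨k, hk⟩ := IsPGroup.iff_card.1 S.isPGroup'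
      rw [card_map_of_injective π.ker.subtype_injective, hk]
      exact ((Nat.coprime_primes hp hr).2 (Ne.symm hne)).pow_right k))
    rw [map_eq_bot_iff_of_injective _ π.ker.subtype_injective] at h1
    exact S.ne_bot_of_dvd_card hd h1
  · intro z hz hc
    have h1 := hq (zpowers z) ⟨fun a ha g => by
      rw [mem_center_iff.1 (zpowers_le.2 hc ha) g]; simpa using ha⟩ (zpowers_le.2 hz) (Or.inl (zpowers_le.2 hc))
    exact zpowers_eq_bot.1 h1

end Cfsg.Lib.AltC
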